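import Groth.Agent.CAlgH3.PSheafGen
import Groth.Agent.CAlgH3.PSheafBound
import Groth.Agent.Coherent.ProjFormula
import Groth.Agent.Coherent.Existence.Restrict
import Groth.Agent.UPLib.ProjSpace
import Groth.Agent.Desc19b.AmpleFamily
import Groth.Agent.TwistLib.TwistInv
import Groth.Agent.CurveLib.ProjLine
import Groth.Agent.Coherent.ProjSpaceBC

/-!
# Products of sections of powers of a globally generated module
-/

set_option autoImplicit false
set_option maxHeartbeats 800000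
set_option backward.isDefEq.respectTransparency false
set_option linter.style.haveILetI false

universe u

open CategoryTheory CategoryTheory.Limits AlgebraicGeometry Opposite TopologicalSpace
open Groth.Agent.Coherent Groth.Agent.PicLib Groth.Agent.AmpleLib

namespace Groth.Agent.MulMap16

theorem tensorComm_hom_tmul {X : Scheme.{u}} (M M' : X.Modules) (U : X.Opens) (a : Γ(M, U)) (b : Γ(M', U)) :
    (tensorComm M M').hom.app U (tmul a b) = tmul b a :=
  Bilin.desc_tmul _ U a b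

variable {k : Type u} [Field k] {X : Scheme.{u}}

theorem step_push {X P : Scheme.{u}} (φ : X ⟶ P) (E : P.Modules) {N T : X.Modules} {M : P.Modules}
    (α : M ≅ (Scheme.Modules.pushforward φ).obj N) [IsIso (Coherent.projHom φ E N)]
    (β : CohB1.tensorMod ((Scheme.Modules.pullback φ).obj E) N ≅ T) (U : P.Opens) (s : Γ(M, U)) (t : Γ(E, U)) :
    (AmpleLib.tensorIso α (Iso.refl E) ≪≫ (tensorComm _ _) ≪≫ asIso (Coherent.projHom φ E N) ≪≫
        (Scheme.Modules.pushforward φ).mapIso β).hom.app U (tmul s t) =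
      (show Γ((Scheme.Modules.pushforward φ).obj T, U) from
        β.hom.app (φ ⁻¹ᵁ U) (tmul (pullSec φ t) (show Γ(N, φ ⁻¹ᵁ U) from α.hom.app U s))) := by
  have h1 : (tensorMap α.hom (𝟙 E)).app U (tmul s t) = tmul (α.hom.app U s) t := tensorMap_tmul _ _ s t
  show ((Scheme.Modules.pushforward φ).map β.hom).app U ((Coherent.projHom φ E N).app U
    ((tensorComm _ _).hom.app U ((tensorMap α.hom (𝟙 E)).app U (tmul s t)))) = _
  rw [h1, tensorComm_hom_tmul, Coherent.projHom_tmul]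
  rfl

theorem step_swap {X : Scheme.{u}} {N L E : X.Modules} (ε : E ≅ L) (U : X.Opens) (a : Γ(E, U)) (b : Γ(N, U)) :
    ((tensorComm E N) ≪≫ AmpleLib.tensorIso (Iso.refl N) ε).hom.app U (tmul a b) = tmul b (ε.hom.app U a) := by
  show (tensorMap (𝟙 N) ε.hom).app U ((tensorComm E N).hom.app U (tmul a b)) = _
  rw [tensorComm_hom_tmul, tensorMap_tmul]
  rfl

/-- Surjectivity descends along a map to projective space. -/
theorem exists_span_tmul_of_hom {r : ℕ} (φ : X ⟶ CohB1.ProjSpace r k) [IsProper φ] {L : X.Modules}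
    (hL : PicF.IsInvertible L)
    (τ : (Scheme.Modules.pullback φ).obj (Twist.twistProjSpace r k 1) ≅ L) (F : X.Modules) (hF : Coh.IsCoh F) :
    ∃ m₀ : ℕ, ∀ a b : ℕ, m₀ ≤ a →
      AddSubgroup.closure {z : Γ(CohB1.tensorMod (CohB1.tensorMod F (CohB1.tensorPow L a)) (CohB1.tensorPow L b),
        (⊤ : X.Opens)) | ∃ s t, z = tmul s t} = ⊤ := by
  let P := CohB1.ProjSpace r k
  haveI : IsLocallyNoetherian P := by
    haveI := CurveLib.isProper_projSpace k r
    exact LocallyOfFiniteType.isLocallyNoetherian (CohB1.ProjSpace.toSpec r k)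
  have hpG : Coh.IsCoh ((Scheme.Modules.pushforward φ).obj F) := Existence.isCoh_push_of_isProper φ hF
  obtain ⟨d, hd⟩ := CAlgH3.PSheafBound.exists_isMRegular ((Scheme.Modules.pushforward φ).obj F) hpG
  have hO : ∀ n : ℕ, Nonempty ((Scheme.Modules.pullback φ).obj (Twist.twistProjSpace r k (n : ℤ)) ≅
      CohB1.tensorPow L n) := fun n => by
    obtain ⟨e⟩ := TwistLib.nonempty_twist_pow_iso (𝒜 := CohB1.polyGrading r k) CAlgH3.PSheafGen.covers n
    obtain ⟨p, -⟩ := exists_pullPowIso φ (CAlgH3.PSheafGen.isInvertible_twistProj (r := r) (k := k) 1) n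
    exact ⟨(Scheme.Modules.pullback φ).mapIso e ≪≫ p ≪≫ powIsoOfIso τ n⟩
  have hfl : ∀ t : ℤ, FlatMod.IsFinLocFree (Twist.twistProjSpace r k t) := fun t =>
    isFinLocFree_of_invertible (CAlgH3.PSheafGen.isInvertible_twistProj t)
  refine ⟨d.toNat, fun a b ha => ?_⟩
  have hreg := CAlgH3.PSheaf.isMRegular_of_le hpG.1 (show d ≤ (a : ℤ) by omega) hd
  have hspan := CAlgH3.PSheafGen.closure_tmul_eq_top_nat hpG.1 hreg b
  obtain ⟨εa⟩ := hO a
  obtain ⟨εb⟩ := hO b
  let N := CohB1.tensorMod F (CohB1.tensorPow L a)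
  let Ea := Twist.twistProjSpace r k (a : ℤ)
  let Eb := Twist.twistProjSpace r k (b : ℤ)
  haveI := Coherent.isIso_projHom (f := φ) (hfl a) F
  haveI := Coherent.isIso_projHom (f := φ) (hfl b) N
  let α : CohB1.tensorMod ((Scheme.Modules.pushforward φ).obj F) Ea ≅ (Scheme.Modules.pushforward φ).obj N :=
    (tensorComm _ _) ≪≫ asIso (Coherent.projHom φ Ea F) ≪≫
      (Scheme.Modules.pushforward φ).mapIso ((tensorComm _ _) ≪≫ AmpleLib.tensorIso (Iso.refl F) εa)
  let β : CohB1.tensorMod ((Scheme.Modules.pullback φ).obj Eb) N ≅ CohB1.tensorMod N (CohB1.tensorPow L b) :=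
    (tensorComm _ _) ≪≫ AmpleLib.tensorIso (Iso.refl N) εb
  let Φ := AmpleLib.tensorIso α (Iso.refl Eb) ≪≫ (tensorComm _ _) ≪≫ asIso (Coherent.projHom φ Eb N) ≪≫
      (Scheme.Modules.pushforward φ).mapIso β
  rw [eq_top_iff]
  intro z _
  have hz := hspan.ge (AddSubgroup.mem_top (Φ.inv.app ⊤ z))
  have hz' : Φ.hom.app ⊤ (Φ.inv.app ⊤ z) = z :=
    congr(($(Φ.inv_hom_id)).app ⊤ z)
  rw [← hz']
  refine AddSubgroup.closure_induction (fun w hw => ?_) (by rw [map_zero]; exact zero_mem _)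
    (fun p q _ _ hp hq => by rw [map_add]; exact add_mem hp hq)
    (fun p _ hp => by rw [map_neg]; exact neg_mem hp) hz
  obtain ⟨s, t, rfl⟩ := hw
  refine AddSubgroup.subset_closure
    ⟨(show Γ(N, (⊤ : X.Opens)) from α.hom.app ⊤ s), εb.hom.app ⊤ (pullSec φ (U := ⊤) t), ?_⟩
  exact (step_push φ Eb α β ⊤ s t).trans (step_swap εb (φ ⁻¹ᵁ ⊤) _ _)

/-- Products of sections of a globally generated module span. -/
theorem exists_span_tmul_of_gg [X.Over (Spec (CommRingCat.of k))] [IsProper (X ↘ Spec (CommRingCat.of k))]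
    [Nonempty X] {L : X.Modules} (hL : PicF.IsInvertible L) (hg : Curv2.IsGloballyGenerated L)
    (F : X.Modules) (hF : Coh.IsCoh F) :
    ∃ m₀ : ℕ, ∀ a b : ℕ, m₀ ≤ a →
      AddSubgroup.closure {z : Γ(CohB1.tensorMod (CohB1.tensorMod F (CohB1.tensorPow L a)) (CohB1.tensorPow L b),
        (⊤ : X.Opens)) | ∃ s t, z = tmul s t} = ⊤ := by
  classical
  haveI : CompactSpace X := QuasiCompact.compactSpace_of_compactSpace (X ↘ Spec (CommRingCat.of k))
  choose σ hσ using Desc19b.exists_mem_glocus_of_gg hL hg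
  obtain ⟨T, hT⟩ := isCompact_univ.elim_finite_subcover (fun z : X => (glocus _ (σ z) : Set X))
    (fun z => (glocus _ (σ z)).2) fun z _ => Set.mem_iUnion.2 ⟨z, hσ z⟩
  obtain ⟨z₀⟩ := ‹Nonempty X›
  let T' := insert z₀ T
  obtain ⟨N, hN⟩ : ∃ N, T'.card = N + 1 := Nat.exists_eq_add_one.2 (Finset.card_pos.2 (Finset.insert_nonempty _ _))
  let e : Fin (N + 1) ≃ T' := (finCongr hN.symm).trans T'.equivFin.symm
  obtain ⟨φ, hφ, τ, -⟩ := UPLib.exists_hom_projSpace N (X ↘ Spec (CommRingCat.of k)) hL (fun l => σ (e l).1)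
    fun z => by
      obtain ⟨z', hz', hzz'⟩ := Set.mem_iUnion₂.1 (hT (Set.mem_univ z))
      exact ⟨e.symm ⟨z', Finset.mem_insert_of_mem hz'⟩, by rw [Equiv.apply_symm_apply]; exact hzz'⟩
  haveI := CurveLib.isProper_projSpace k N
  haveI : IsProper (φ ≫ CohB1.ProjSpace.toSpec N k) := hφ.symm ▸ ‹IsProper (X ↘ Spec (CommRingCat.of k))›
  haveI : IsProper φ := IsProper.of_comp φ (CohB1.ProjSpace.toSpec N k)
  exact exists_span_tmul_of_hom φ hL τ F hF

end Groth.Agent.MulMap16
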